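import Groth.Prelude.Def_PicF2
import Groth.Agent.RigDesc27.Classes
import Groth.Agent.RigDesc27.Disjoint
import Groth.Agent.PicLib.PicGroup
import Groth.Agent.PicLim27.Lim
import Groth.Agent.FEtQuot.FieldLimit
import Groth.Agent.S11951
import Groth.Agent.CohDer1.Blanchard.Base

/-!
# Galois invariant classes on `X_K` descend when `X` has a rational point
-/

set_option autoImplicit false
set_option backward.isDefEq.respectTransparency.types false
set_option linter.style.haveILetI false

universe u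

open CategoryTheory CategoryTheory.Limits AlgebraicGeometry Opposite
open Groth.Agent.PicLib

namespace Groth.Agent.PicGal27

variable {k : Type u} [Field k] {X : Scheme.{u}} (f : X ⟶ Spec (CommRingCat.of k))

/-- `Spec M ⟶ Spec k`. -/
noncomputable abbrev bM (k M : Type u) [Field k] [Field M] [Algebra k M] :
    Spec (CommRingCat.of M) ⟶ Spec (CommRingCat.of k) :=
  Spec.map (CommRingCat.ofHom (algebraMap k M))

theorem bijective_app (hH0 : IsIso f.appTop) (U : (Spec (CommRingCat.of k)).Opens) :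
    Function.Bijective (f.app U) := by
  by_cases h : ∃ y, y ∈ U
  · obtain ⟨y, hy⟩ := h
    obtain rfl : U = ⊤ := top_le_iff.1 fun z _ => (Subsingleton.elim y z) ▸ hy
    haveI := hH0
    exact ConcreteCategory.bijective_of_isIso f.appTop
  · obtain rfl : U = ⊥ := le_bot_iff.1 fun z hz => (h ⟨z, hz⟩).elim
    haveI : Subsingleton Γ(X, f ⁻¹ᵁ (⊥ : (Spec (CommRingCat.of k)).Opens)) := by
      rw [show f ⁻¹ᵁ (⊥ : (Spec (CommRingCat.of k)).Opens) = ⊥ from rfl]
      infer_instance
    exact ⟨fun a b _ => Subsingleton.elim a b, fun y => ⟨0, Subsingleton.elim _ _⟩⟩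

variable (M : Type u) [Field M] [Algebra k M] {Ω : Type u} [Field Ω] [Algebra k Ω] [Algebra M Ω]
  [IsScalarTower k M Ω]

theorem map_bM : Spec.map (CommRingCat.ofHom (algebraMap M Ω)) ≫ bM k M = bM k Ω := by
  rw [bM, ← Spec.map_comp, ← CommRingCat.ofHom_comp, ← IsScalarTower.algebraMap_eq]

/-- `X_Ω ⟶ X_M`. -/
noncomputable def toStage : pullback f (bM k Ω) ⟶ pullback f (bM k M) :=
  pullback.lift (pullback.fst _ _) (pullback.snd _ _ ≫ Spec.map (CommRingCat.ofHom (algebraMap M Ω)))
    (by rw [Category.assoc, map_bM, pullback.condition])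

theorem toStage_fst : toStage f M (Ω := Ω) ≫ pullback.fst _ _ = pullback.fst f (bM k Ω) :=
  pullback.lift_fst _ _ _

theorem toStage_snd : toStage f M (Ω := Ω) ≫ pullback.snd _ _ =
    pullback.snd f (bM k Ω) ≫ Spec.map (CommRingCat.ofHom (algebraMap M Ω)) :=
  pullback.lift_snd _ _ _

theorem isPullback_toStage : IsPullback (toStage f M (Ω := Ω)) (pullback.snd f (bM k Ω))
    (pullback.snd f (bM k M)) (Spec.map (CommRingCat.ofHom (algebraMap M Ω))) := by
  refine IsPullback.of_right ?_ (toStage_snd f M) (IsPullback.of_hasPullback f (bM k M))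
  rw [toStage_fst, map_bM]
  exact IsPullback.of_hasPullback _ _

theorem injective_pull_toStage [CompactSpace X] [QuasiSeparatedSpace X] (hH0 : IsIso f.appTop) :
    Function.Injective (PicM.pull (toStage f M (Ω := Ω))) := by
  haveI : QuasiCompact f := (quasiCompact_iff_compactSpace f).2 ‹_›
  haveI : QuasiSeparated f := (quasiSeparated_iff_quasiSeparatedSpace f).2 ‹_›
  let g := Spec.map (CommRingCat.ofHom (algebraMap M Ω))
  haveI : Surjective g := ⟨fun y => ⟨default, Subsingleton.elim _ _⟩⟩
  have hbij := CohDer1.Blanchard.bijective_app_of_isPullback (IsPullback.of_hasPullback f (bM k M))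
    (bijective_app f hH0)
  have hpi := S11951.result (pullback.snd f (bM k M)) hbij g
    (fun L hL _ => (PicM.of_eq_one_iff hL).1 (PicM.eq_one_of_field M _))
  let j := (isPullback_toStage f M (Ω := Ω)).isoPullback
  have hj : toStage f M (Ω := Ω) = j.hom ≫ pullback.fst _ g :=
    ((isPullback_toStage f M).isoPullback_hom_fst).symm
  intro a b h
  obtain ⟨c, hc⟩ := PicM.exists_mul_eq_one b
  refine PicM.eq_of_mul_inv hc ?_
  have h1 : PicM.pull (toStage f M (Ω := Ω)) (a * c) = 1 := by rw [map_mul, h, ← map_mul, hc, map_one]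
  have h2 : PicM.pull (pullback.fst (pullback.snd f (bM k M)) g) (a * c) = 1 := by
    have := congrArg (PicM.pull j.inv) h1
    rwa [hj, PicM.pull_pull, ← Category.assoc, j.inv_hom_id, Category.id_comp, map_one] at this
  obtain ⟨L, hL, e⟩ := PicM.exists_eq_of (a * c)
  rw [e] at h2 ⊢
  rw [PicM.pull_of] at h2
  exact (PicM.of_eq_one_iff hL).2 (hpi L hL ((PicM.of_eq_one_iff _).1 h2))

/-- `Spec M` over `k`. -/
noncomputable abbrev UM (k M : Type u) [Field k] [Field M] [Algebra k M] : Over (Spec (CommRingCat.of k)) :=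
  Over.mk (bM k M)

/-- The automorphism of `Spec M` over `k` attached to `τ`. -/
noncomputable def tau (τ : M ≃ₐ[k] M) : UM k M ⟶ UM k M :=
  Over.homMk (Spec.map (CommRingCat.ofHom (τ : M →+* M))) (by
    show Spec.map _ ≫ Spec.map _ = Spec.map _
    rw [← Spec.map_comp, ← CommRingCat.ofHom_comp]
    congr 2
    ext x
    exact τ.commutes x)

/-- The class descended to `X_M` is invariant under all automorphisms of `M`. -/
theorem invariant [CompactSpace X] [QuasiSeparatedSpace X] (hH0 : IsIso f.appTop) [Normal k Ω]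
    (e : PicM (PicF.XT f (UM k M))) (d : PicM (pullback f (bM k Ω)))
    (he : PicM.pull (toStage f M (Ω := Ω)) e = d)
    (hd : ∀ σ : Ω ≃ₐ[k] Ω, PicM.pull (PicF2.twistAut f σ) d = d) (τ : M ≃ₐ[k] M) :
    PicM.pull (PicF.XTmap f (tau M τ)) e = e := by
  apply injective_pull_toStage f M (Ω := Ω) hH0
  let σ : Ω ≃ₐ[k] Ω := τ.liftNormal Ω
  have hcomm : PicF2.twistAut f σ ≫ toStage f M = toStage f M (Ω := Ω) ≫ PicF.XTmap f (tau M τ) := by
    apply RigDesc27.hom_ext_XT (V := UM k M)
    · rw [Category.assoc, Category.assoc, RigDesc27.XTmap_fst]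
      rw [show (toStage f M (Ω := Ω)) ≫ pullback.fst f (UM k M).hom = pullback.fst f (bM k Ω) from toStage_fst f M]
      exact (pullback.lift_fst _ _ _).trans (Category.comp_id _)
    · rw [Category.assoc, Category.assoc, RigDesc27.XTmap_proj]
      rw [show (toStage f M (Ω := Ω)) ≫ PicF.XTproj f (UM k M) = _ from toStage_snd f M]
      rw [← Category.assoc (toStage f M),
        show (toStage f M (Ω := Ω)) ≫ PicF.XTproj f (UM k M) = _ from toStage_snd f M]
      simp only [PicF2.twistAut, pullback.map, pullback.lift_snd_assoc, Category.assoc, tau, Over.homMk_left]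
      rw [← Spec.map_comp, ← Spec.map_comp, ← CommRingCat.ofHom_comp, ← CommRingCat.ofHom_comp]
      congr 3
      ext x
      exact τ.liftNormal_commutes Ω x
  rw [PicM.pull_pull, ← hcomm, ← PicM.pull_pull, he, hd]

variable [FiniteDimensional k M] [Normal k M] [Algebra.IsSeparable k M]

/-- Invariant classes have the same pullback along any two points of `Spec M`. -/
theorem glue (e : PicM (PicF.XT f (UM k M)))
    (hinv : ∀ τ : M ≃ₐ[k] M, PicM.pull (PicF.XTmap f (tau M τ)) e = e)
    {V : Over (Spec (CommRingCat.of k))} (g₁ g₂ : V ⟶ UM k M) :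
    PicM.pull (PicF.XTmap f g₁) e = PicM.pull (PicF.XTmap f g₂) e := by
  classical
  have hu : (algebraMap k M).FormallyUnramified := RingHom.formallyUnramified_algebraMap.2 (Algebra.FormallyUnramified.of_isSeparable k M)
  haveI : FormallyUnramified (bM k M) := (HasRingHomProperty.Spec_iff (P := @FormallyUnramified)).2 hu
  haveI : IsFinite (bM k M) :=
    (IsFinite.SpecMap_iff _).2 (RingHom.finite_algebraMap.2 inferInstance)
  have hcond : ∀ τ : M ≃ₐ[k] M, (g₁ ≫ tau M τ).left ≫ bM k M = g₂.left ≫ bM k M := fun τ =>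
    (Over.w _).trans (Over.w g₂).symm
  let δ : ∀ τ : M ≃ₐ[k] M, V.left ⟶ pullback (bM k M) (bM k M) :=
    fun τ => pullback.lift (g₁ ≫ tau M τ).left g₂.left (hcond τ)
  let W : (M ≃ₐ[k] M) → V.left.Opens := fun τ => δ τ ⁻¹ᵁ (pullback.diagonal (bM k M)).opensRange
  have hfac : ∀ (τ : M ≃ₐ[k] M) {Y : Scheme.{u}} (q : Y ⟶ V.left), (∀ y, q y ∈ W τ) →
      q ≫ (g₁ ≫ tau M τ).left = q ≫ g₂.left := by
    intro τ Y q hq
    have hr : Set.range (q ≫ δ τ) ⊆ Set.range (pullback.diagonal (bM k M)) := by
      rintro _ ⟨y, rfl⟩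
      exact hq y
    have hl := IsOpenImmersion.lift_fac (pullback.diagonal (bM k M)) (q ≫ δ τ) hr
    have h1 := congrArg (· ≫ pullback.fst _ _) hl
    have h2 := congrArg (· ≫ pullback.snd _ _) hl
    simp only [Category.assoc, pullback.diagonal_fst, Category.comp_id, δ, pullback.lift_fst] at h1
    simp only [Category.assoc, pullback.diagonal_snd, Category.comp_id, δ, pullback.lift_snd] at h2
    exact h1.symm.trans h2
  -- the residue field points
  have hpt : ∀ (z : V.left), ∃ (a₁ a₂ : M →+* V.left.residueField z),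
      a₁.comp (algebraMap k M) = a₂.comp (algebraMap k M) ∧
      V.left.fromSpecResidueField z ≫ g₁.left = Spec.map (CommRingCat.ofHom a₁) ∧
      V.left.fromSpecResidueField z ≫ g₂.left = Spec.map (CommRingCat.ofHom a₂) := by
    intro z
    obtain ⟨a₁, h1⟩ := Spec.map_surjective (V.left.fromSpecResidueField z ≫ g₁.left)
    obtain ⟨a₂, h2⟩ := Spec.map_surjective (V.left.fromSpecResidueField z ≫ g₂.left)
    refine ⟨a₁.hom, a₂.hom, ?_, h1.symm, h2.symm⟩
    have h : Spec.map (CommRingCat.ofHom (algebraMap k M) ≫ a₁) = Spec.map (CommRingCat.ofHom (algebraMap k M) ≫ a₂) := by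
      rw [Spec.map_comp, Spec.map_comp, h1, h2, Category.assoc, Category.assoc]
      exact congrArg (V.left.fromSpecResidueField z ≫ ·) ((Over.w g₁).trans (Over.w g₂).symm)
    exact congrArg (fun t => t.hom) (Spec.map_injective h)
  have hcov : ∀ z : V.left, ∃ τ, z ∈ W τ := by
    intro z
    obtain ⟨a₁, a₂, ha, h1, h2⟩ := hpt z
    letI : Algebra k (V.left.residueField z) := (a₁.comp (algebraMap k M)).toAlgebra
    letI : Algebra M (V.left.residueField z) := a₁.toAlgebra
    haveI : IsScalarTower k M (V.left.residueField z) := IsScalarTower.of_algebraMap_eq fun x => rfl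
    let b : M →ₐ[k] V.left.residueField z :=
      { a₂ with commutes' := fun r => (RingHom.congr_fun ha r).symm }
    let τ : M ≃ₐ[k] M := b.restrictNormal' M
    refine ⟨τ, ?_⟩
    have hτ : ∀ x, a₁ (τ x) = a₂ x := fun x => b.restrictNormal_commutes M x
    have hfac : V.left.fromSpecResidueField z ≫ δ τ =
        (V.left.fromSpecResidueField z ≫ g₂.left) ≫ pullback.diagonal (bM k M) := by
      apply pullback.hom_ext
      · simp only [δ, Category.assoc, pullback.lift_fst, pullback.diagonal_fst, Category.comp_id,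
          Over.comp_left]
        rw [← Category.assoc, h1, h2]
        show _ ≫ Spec.map _ = _
        rw [← Spec.map_comp, ← CommRingCat.ofHom_comp]
        congr 2
        exact RingHom.ext hτ
      · simp only [δ, Category.assoc, pullback.lift_snd, pullback.diagonal_snd, Category.comp_id]
    let pt := IsLocalRing.closedPoint (V.left.residueField z)
    refine ⟨(V.left.fromSpecResidueField z ≫ g₂.left) pt, ?_⟩
    rw [← Scheme.Hom.comp_apply, ← hfac, Scheme.Hom.comp_apply, Scheme.fromSpecResidueField_apply]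
  have hdis : ∀ (τ τ' : M ≃ₐ[k] M) (z : V.left), z ∈ W τ → z ∈ W τ' → τ = τ' := by
    intro τ τ' z hz hz'
    obtain ⟨a₁, a₂, ha, h1, h2⟩ := hpt z
    have hmem : ∀ {W₀ : V.left.Opens}, z ∈ W₀ → ∀ y, V.left.fromSpecResidueField z y ∈ W₀ := fun h y => by
      rwa [Scheme.fromSpecResidueField_apply]
    have e1 := (hfac τ _ (hmem hz)).trans (hfac τ' _ (hmem hz')).symm
    simp only [Over.comp_left, ← Category.assoc, h1, tau, Over.homMk_left, ← Spec.map_comp,
      ← CommRingCat.ofHom_comp] at e1
    have e2 := congrArg (fun t => t.hom) (Spec.map_injective e1)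
    exact AlgEquiv.ext fun x => a₁.injective (RingHom.congr_fun e2 x)
  obtain ⟨c, hc⟩ := PicM.exists_mul_eq_one (PicM.pull (PicF.XTmap f g₂) e)
  refine PicM.eq_of_mul_inv hc ?_
  let V' : (M ≃ₐ[k] M) → Over (Spec (CommRingCat.of k)) := fun τ => Over.mk ((W τ).ι ≫ V.hom)
  let j : ∀ τ, V' τ ⟶ V := fun τ => Over.homMk (W τ).ι
  haveI : ∀ τ, IsOpenImmersion (PicF.XTmap f (j τ)) := fun τ =>
    MorphismProperty.of_isPullback (P := @IsOpenImmersion) (RigDesc27.isPullback_XTmap (j τ)).flip
      (inferInstanceAs (IsOpenImmersion (W τ).ι))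
  refine RigDesc27.eq_one_of_disjoint (fun τ => PicF.XTmap f (j τ)) ?_ ?_ _ fun τ => ?_
  · intro z
    obtain ⟨τ, hτ⟩ := hcov (PicF.XTproj f V z)
    obtain ⟨p, hp, -⟩ := Scheme.exists_preimage_of_isPullback (RigDesc27.isPullback_XTmap (j τ)) z
      ⟨PicF.XTproj f V z, hτ⟩ rfl
    exact ⟨τ, p, hp⟩
  · intro τ τ' a b hab
    have hm : ∀ τ (a : (PicF.XT f (V' τ) : Scheme.{u})), PicF.XTproj f V (PicF.XTmap f (j τ) a) ∈ W τ :=
      fun τ a => by
        rw [← Scheme.Hom.comp_apply, RigDesc27.XTmap_proj, Scheme.Hom.comp_apply]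
        exact (PicF.XTproj f (V' τ) a).2
    exact hdis τ τ' _ (hm τ a) (hab ▸ hm τ' b)
  · have e1 : j τ ≫ g₁ ≫ tau M τ = j τ ≫ g₂ := Over.OverMorphism.ext (by
      simp only [Over.comp_left]
      exact hfac τ (W τ).ι fun y => y.2)
    rw [map_mul, ← hinv τ, PicM.pull_pull, PicM.pull_pull, ← RigDesc27.XTmap_comp, ← RigDesc27.XTmap_comp,
      Category.assoc, e1, RigDesc27.XTmap_comp, ← PicM.pull_pull, ← map_mul, hc, map_one]

/-- An invariant class on `X_M` descends to `X`. -/
theorem exists_descend [CompactSpace X] [QuasiSeparatedSpace X] (hH0 : IsIso f.appTop)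
    (x : Spec (CommRingCat.of k) ⟶ X) (hx : x ≫ f = 𝟙 _) (e : PicM (PicF.XT f (UM k M)))
    (hinv : ∀ τ : M ≃ₐ[k] M, PicM.pull (PicF.XTmap f (tau M τ)) e = e) :
    ∃ c : PicM X, PicM.pull (pullback.fst f (bM k M)) c = e := by
  haveI : QuasiCompact f := (quasiCompact_iff_compactSpace f).2 ‹_›
  haveI : QuasiSeparated f := (quasiSeparated_iff_quasiSeparatedSpace f).2 ‹_›
  let T : Over (Spec (CommRingCat.of k)) := Over.mk (𝟙 _)
  let w : UM k M ⟶ T := Over.homMk (bM k M) (Category.comp_id _)
  have hfin : (algebraMap k M).FinitePresentation :=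
    RingHom.FinitePresentation.of_finiteType.1 (RingHom.Finite.finiteType (RingHom.finite_algebraMap.2 inferInstance))
  haveI : LocallyOfFinitePresentation w.left :=
    (HasRingHomProperty.Spec_iff (P := @LocallyOfFinitePresentation)).2 hfin
  haveI : Surjective w.left := ⟨fun y => ⟨(default : Spec (CommRingCat.of M)), @Subsingleton.elim _
    (inferInstanceAs (Subsingleton (Spec (CommRingCat.of k)))) _ _⟩⟩
  haveI : Flat w.left := inferInstanceAs (Flat (bM k M))
  have ha : ∀ (V : Over (Spec (CommRingCat.of k))) (O : V.left.Opens), IsIso ((PicF.XTproj f V).app O) := by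
    intro V O
    haveI : Flat V.hom := inferInstance
    exact (ConcreteCategory.isIso_iff_bijective _).2
      (CohDer1.Blanchard.bijective_app_of_isPullback (IsPullback.of_hasPullback f V.hom) (bijective_app f hH0) O)
  obtain ⟨d, ⟨-, hd⟩, -⟩ := RigDesc27.existsUnique_descend (σ := x) (hσ := hx) (w := w) ha e
    (PicM.eq_one_of_field M _) fun V g₁ g₂ _ => glue f M e hinv g₁ g₂
  refine ⟨PicM.pull (pullback.lift (𝟙 X) f ((Category.id_comp _).trans (Category.comp_id _).symm) : X ⟶ PicF.XT f T) d, ?_⟩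
  rw [PicM.pull_pull, ← hd]
  congr 2
  apply RigDesc27.hom_ext_XT (V := T)
  · rw [RigDesc27.XTmap_fst, Category.assoc, pullback.lift_fst, Category.comp_id]
    rfl
  · rw [RigDesc27.XTmap_proj, Category.assoc, pullback.lift_snd]
    exact pullback.condition

end Groth.Agent.PicGal27
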