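import Groth.Agent.PicGal27.Desc
import Mathlib.FieldTheory.Galois.Basic

/-!
# Classes on `X_Ω` come from a finite Galois stage
-/

set_option autoImplicit false
set_option backward.isDefEq.respectTransparency.types false
set_option linter.style.haveILetI false

universe u

open CategoryTheory CategoryTheory.Limits AlgebraicGeometry Opposite
open Groth.Agent.PicLib

namespace Groth.Agent.PicGal27

open FEtQuot.FieldLimit in
theorem exists_galois_stage {k : Type u} [Field k] {X : Scheme.{u}} (f : X ⟶ Spec (CommRingCat.of k))
    [CompactSpace X] [QuasiSeparatedSpace X] {Ω : Type u} [Field Ω] [Algebra k Ω] [IsGalois k Ω]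
    (d : PicM (pullback f (bM k Ω))) :
    ∃ M : IntermediateField k Ω, FiniteDimensional k M ∧ IsGalois k M ∧
      ∃ e : PicM (PicF.XT f (UM k M)), PicM.pull (toStage f M (Ω := Ω)) e = d := by
  haveI : Algebra.IsAlgebraic k Ω := inferInstance
  obtain ⟨hl⟩ := nonempty_isLimit_cone (Ω := Ω) f
  obtain ⟨hc⟩ := PicLim27.nonempty_isColimit_invCl (cone (Ω := Ω) f) hl
  obtain ⟨s, c, hs⟩ := Types.jointly_surjective _ hc (⟨d.val, d.prop⟩ : PicLoc.PicSet _)
  let F : IntermediateField k Ω := ext k s.unop.unop
  let M : IntermediateField k Ω := IntermediateField.normalClosure k F Ω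
  haveI : FiniteDimensional k M := normalClosure.is_finiteDimensional k F Ω
  haveI : IsGalois k M := IsGalois.normalClosure k F Ω
  have hle : F ≤ M := IntermediateField.le_normalClosure F
  let c' : PicM (pullback f (bs k s.unop.unop)) := ⟨c.1, c.2⟩
  let r : pullback f (bM k M) ⟶ pullback f (bs k s.unop.unop) :=
    pullback.lift (pullback.fst _ _)
      (pullback.snd _ _ ≫ Spec.map (CommRingCat.ofHom (IntermediateField.inclusion hle).toRingHom))
      (by
        rw [Category.assoc, bs, ← Spec.map_comp, pullback.condition]
        rfl)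
  refine ⟨M, inferInstance, inferInstance, PicM.pull r c', ?_⟩
  have hr : toStage f M (Ω := Ω) ≫ r = (cone f).π.app s.unop := by
    apply pullback.hom_ext
    · rw [Category.assoc, pullback.lift_fst, toStage_fst]
      exact (π_fst f s.unop).symm
    · rw [Category.assoc, pullback.lift_snd, ← Category.assoc, toStage_snd, Category.assoc]
      refine Eq.trans ?_ (π_snd f s.unop).symm
      rw [← Spec.map_comp]
      rfl
  rw [PicM.pull_pull, hr]
  exact PicM.ext (congrArg Subtype.val hs)

end Groth.Agent.PicGal27
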